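import Groth.Agent.DescLib.Flat
import Groth.Agent.FpqcDescLib.Closed

/-!
# Properties of a morphism through which a flat surjection factors
-/

universe u

open CategoryTheory CategoryTheory.Limits AlgebraicGeometry

namespace Groth.Agent.QuotMapLib

variable {X Y Z : Scheme.{u}}

/-- If a flat surjection factors through `p` and the source of `p` is reduced, so is the target. -/
theorem isReduced_of_factor (p : X ⟶ Y) (r : Z ⟶ X) [Flat (r ≫ p)] [Surjective (r ≫ p)] [IsReduced X] :
    IsReduced Y := by
  haveI : ∀ y, _root_.IsReduced (Y.presheaf.stalk y) := fun y => by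
    obtain ⟨z, hz⟩ := (r ≫ p).surjective y
    rw [Scheme.Hom.comp_apply] at hz
    subst hz
    have hff := DescLib.faithfullyFlat_stalkMap (r ≫ p) z
    have hinj : Function.Injective ((r ≫ p).stalkMap z).hom := hff.injective
    have he : ((r ≫ p).stalkMap z).hom = (r.stalkMap z).hom.comp (p.stalkMap (r z)).hom :=
      congrArg CommRingCat.Hom.hom (Scheme.Hom.stalkMap_comp r p z)
    exact isReduced_of_injective (p.stalkMap (r z)).hom
      (Function.Injective.of_comp (f := ⇑(r.stalkMap z).hom) fun a b h => hinj (by rw [he]; exact h))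
  exact isReduced_of_isReduced_stalk Y

/-- A flat surjection factoring through `p` allows to descend flatness along `p`. -/
theorem flat_of_isPullback (p : X ⟶ Y) (r : Z ⟶ X) [Flat (r ≫ p)] [Surjective (r ≫ p)]
    {A B : Scheme.{u}} (i : B ⟶ Y) (i' : A ⟶ X) (g : A ⟶ B) (H : IsPullback i' g p i) [Flat i'] :
    Flat i := by
  have hZ : Flat (pullback.fst (r ≫ p) i) :=
    MorphismProperty.of_isPullback (P := @Flat)
      (IsPullback.of_right' (IsPullback.of_hasPullback (r ≫ p) i).flip H.flip) inferInstance
  haveI : Flat (pullback.snd (r ≫ p) i) := MorphismProperty.pullback_snd _ _ inferInstance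
  haveI : Surjective (pullback.snd (r ≫ p) i) := MorphismProperty.pullback_snd _ _ inferInstance
  haveI : Flat (𝟙 _ ≫ pullback.snd (r ≫ p) i) := by rwa [Category.id_comp]
  haveI : Surjective (𝟙 _ ≫ pullback.snd (r ≫ p) i) := by rwa [Category.id_comp]
  haveI : Flat (pullback.snd (r ≫ p) i ≫ i) := by rw [← pullback.condition]; infer_instance
  exact DescLib.flat_of_flat_comp_refined (pullback.snd (r ≫ p) i) i (𝟙 _)

end Groth.Agent.QuotMapLib
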